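import Cfsg.Agent.Bender.Consumers
import Cfsg.Agent.SL2Displacement.General
import Cfsg.Agent.SUThreeDisplacement.Bounds
import Cfsg.Agent.Suzuki.ModuleBound
import Cfsg.Agent.CITGraph.Models

/-!
Bounds for faithful elementary abelian modules of groups with an odd-kernel quotient in one of the
three families with a strongly embedded subgroup.
-/

set_option autoImplicit false
set_option linter.unusedSectionVars false
set_option linter.style.haveILetI false

namespace CfsgLib.Bender.ModuleDim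

open Subgroup
open CfsgLib.SL2Displacement (disp)

variable {M : Type*} [Group M] [Finite M] {V : Type*} [CommGroup V] [Finite V]
  {L : Type*} [Group L] [Finite L]

theorem card_sylow (π : M →* L) (hπ : Function.Surjective π) (hker : Odd (Nat.card π.ker))
    {a R : ℕ} (hL : Nat.card L = 2 ^ a * R) (hR : Odd R) (S : Sylow 2 M) :
    Nat.card (S : Subgroup M) = 2 ^ a := by
  haveI : Fact (Nat.Prime 2) := ⟨Nat.prime_two⟩
  have h : Nat.card M = 2 ^ a * (R * Nat.card π.ker) := by
    rw [← mul_assoc, ← hL, ← Nat.card_congr (QuotientGroup.quotientKerEquivOfSurjective π hπ).toEquiv]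
    exact Subgroup.card_eq_card_quotient_mul_card_subgroup π.ker
  refine S.card_eq_multiplicity.trans (congrArg (2 ^ ·) ?_)
  have h0 : R * Nat.card π.ker ≠ 0 := mul_ne_zero hR.pos.ne' Nat.card_pos.ne'
  rw [h, Nat.factorization_mul (pow_ne_zero _ two_ne_zero) h0, Finsupp.add_apply,
    Nat.prime_two.factorization_pow, Finsupp.single_eq_same,
    Nat.factorization_eq_zero_of_not_dvd fun hd =>
      Nat.not_even_iff_odd.2 (hR.mul hker) (even_iff_two_dvd.2 hd), add_zero]

theorem eq_one_of_map_eq_one (π : M →* L) (hker : Odd (Nat.card π.ker)) {x : M} {i : ℕ}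
    (hi : x ^ 2 ^ i = 1) (h : π x = 1) : x = 1 :=
  Consumers.eq_one_of_two_of_odd (hker.of_dvd_nat (Subgroup.orderOf_dvd_natCard _ h)) hi

/-- The bounds for the displacement module of a group mapping onto one of the three families. -/
theorem three_bounds (hV : ∀ v : V, v ^ 2 = 1) (γ : M →* MulAut V) (hγ : Function.Injective γ)
    (π : M →* L) (hπ : Function.Surjective π) (hker : Odd (Nat.card π.ker)) (hL : Consumers.Three L)
    (S : Sylow 2 M) {z : M} (hz : z ∈ (S : Subgroup M))
    (hzc : z ∈ centralizer ((S : Subgroup M) : Set M)) (hz1 : z ≠ 1) :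
    Nat.card (S : Subgroup M) ^ 2 ≤ Nat.card V ∧
      Nat.card ↥((S : Subgroup M) ⊓ centralizer ((S : Subgroup M) : Set M)) ≤
        Nat.card (disp (γ z)).range := by
  classical
  haveI : Fact (Nat.Prime 2) := ⟨Nat.prime_two⟩
  obtain ⟨i, hi⟩ := S.2 ⟨z, hz⟩
  have hi' : z ^ 2 ^ i = 1 := congrArg Subtype.val hi
  have hVp : IsPGroup 2 V := fun v => ⟨1, by rw [pow_one, hV]⟩
  have hπz : π z ≠ 1 := fun h => hz1 (eq_one_of_map_eq_one π hker hi' h)
  have hle : Nat.card ↥((S : Subgroup M) ⊓ centralizer ((S : Subgroup M) : Set M)) ≤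
      Nat.card (S : Subgroup M) := Nat.le_of_dvd Nat.card_pos (card_dvd_of_le inf_le_left)
  rcases hL with ⟨F, i1, i2, ⟨n, hn, hc⟩, ⟨e⟩⟩ | ⟨F, i1, i2, m, hm, hc, ⟨e⟩⟩ |
    ⟨F, i1, i2, n, hn, hc, ⟨e⟩⟩
  · haveI := charP_of_card_eq_prime_pow (p := 2) hc
    set φ := e.toMonoidHom.comp π
    have hφ : Function.Surjective φ := e.surjective.comp hπ
    obtain ⟨h1, h2⟩ := SL2Displacement.le_disp_and_card hVp n hc γ hγ φ hφ (g := z)
      (fun h => hπz (e.injective (h.trans e.map_one.symm))) hi'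
    have hS : Nat.card (S : Subgroup M) = 2 ^ n := by
      refine card_sylow π hπ hker (R := (2 ^ n) ^ 2 - 1) ?_ ?_ S
      · rw [Nat.card_congr e.toEquiv]
        exact CITGraph.card_psl_two_pow (by omega) hc
      · exact Nat.Even.sub_odd (Nat.one_le_pow _ _ (Nat.two_pow_pos n))
          ((even_two.pow_of_ne_zero (by omega)).pow_of_ne_zero two_ne_zero) odd_one
    refine ⟨?_, hle.trans (hS ▸ h1)⟩
    rw [hS, ← pow_mul, mul_comm]
    exact h2
  · have h := Suzuki.isSzField_of_card hm hc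
    set φ : M →* Suzuki.SzG F m := ((Suzuki.lieEquiv h).symm.toMonoidHom.comp e.toMonoidHom).comp π
    have hφ : Function.Surjective φ :=
      ((Suzuki.lieEquiv h).symm.surjective.comp e.surjective).comp hπ
    have hk : φ.ker = π.ker := by
      ext x
      simp [φ, MonoidHom.mem_ker]
    haveI : Finite (V ⋊[γ] M) := Finite.of_equiv _ SemidirectProduct.equivProd.symm
    set W : Subgroup (V ⋊[γ] M) := (SemidirectProduct.inl (φ := γ)).range
    set H : Subgroup (V ⋊[γ] M) := (SemidirectProduct.inr (φ := γ)).range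
    have hconj : ∀ (g : M) (v : V),
        (SemidirectProduct.inr g : V ⋊[γ] M) * SemidirectProduct.inl v *
          (SemidirectProduct.inr g)⁻¹ = SemidirectProduct.inl (γ g v) := fun g v =>
      (by rw [SemidirectProduct.inl_aut, map_inv])
    have hW : Cfsg.IsElementaryAbelian 2 W := by
      refine ⟨⟨⟨?_⟩⟩, ?_⟩
      · rintro ⟨_, a, rfl⟩ ⟨_, b, rfl⟩
        exact Subtype.ext (by
          show SemidirectProduct.inl a * SemidirectProduct.inl b = _ * _
          rw [← map_mul, mul_comm, map_mul])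
      · rintro _ ⟨a, rfl⟩
        rw [← map_pow, hV, map_one]
    have hHW : H ≤ normalizer (W : Set (V ⋊[γ] M)) := by
      rintro _ ⟨g, rfl⟩
      refine mem_normalizer_fintype ?_
      rintro _ ⟨v, rfl⟩
      exact ⟨γ g v, (hconj g v).symm⟩
    have hfix : ∀ (g : M) (v : V), (SemidirectProduct.inr g : V ⋊[γ] M) * SemidirectProduct.inl v =
        SemidirectProduct.inl v * SemidirectProduct.inr g ↔ γ g v = v := by
      intro g v
      rw [← mul_inv_eq_iff_eq_mul, hconj, SemidirectProduct.inl_injective.eq_iff]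
    have hf : H ⊓ centralizer (W : Set (V ⋊[γ] M)) = ⊥ := by
      refine eq_bot_iff.2 ?_
      rintro _ ⟨⟨g, rfl⟩, hg⟩
      rw [mem_bot, hγ.eq_iff' (map_one γ) |>.1 (MulEquiv.ext fun v =>
        (hfix g v).1 (mem_centralizer_iff.1 hg _ ⟨v, rfl⟩).symm), map_one]
    let eH : M ≃* H := MonoidHom.ofInjective SemidirectProduct.inr_injective
    obtain ⟨j, -, hj⟩ := (Nat.dvd_prime_pow Nat.prime_two).1 (orderOf_dvd_of_pow_eq_one hi')
    obtain ⟨h1, h2⟩ := Suzuki.sq_le_relIndex_centralizer h hW hHW hf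
      (φ.comp eH.symm.toMonoidHom) (hφ.comp eH.symm.surjective)
      (by
        rw [← MonoidHom.comap_ker, hk]
        intro hd
        refine Nat.not_even_iff_odd.2 hker (even_iff_two_dvd.2 (hd.trans (dvd_of_eq ?_)))
        exact Nat.card_congr
          { toFun := fun x => (⟨eH.symm x.1, x.2⟩ : π.ker)
            invFun := fun x => ⟨eH x.1, by simp [x.2]⟩
            left_inv := fun x => Subtype.ext (eH.apply_symm_apply _)
            right_inv := fun x => Subtype.ext (eH.symm_apply_apply _) })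
      (s := SemidirectProduct.inr z) ⟨z, rfl⟩
      (fun h => hz1 (SemidirectProduct.inr_injective (h.trans (map_one _).symm)))
      (i := j) (by rw [orderOf_injective _ SemidirectProduct.inr_injective, hj])
    have hWc : Nat.card W = Nat.card V :=
      (Nat.card_congr (MonoidHom.ofInjective SemidirectProduct.inl_injective).toEquiv).symm
    have hrel : (W ⊓ centralizer ({SemidirectProduct.inr z} : Set (V ⋊[γ] M))).relIndex W =
        Nat.card (disp (γ z)).range := by
      have hinj := SemidirectProduct.inl_injective (φ := γ)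
      set K : Subgroup V := (centralizer ({SemidirectProduct.inr z} : Set (V ⋊[γ] M))).comap
        SemidirectProduct.inl
      have hK : K.map SemidirectProduct.inl =
          W ⊓ centralizer ({SemidirectProduct.inr z} : Set (V ⋊[γ] M)) :=
        map_comap_eq _ _
      rw [← SL2Displacement.card_range_eq_index (γ z) K fun v => by
        rw [mem_comap, mem_centralizer_singleton_iff, ← hfix]; exact eq_comm]
      rw [← hK, show W = (⊤ : Subgroup V).map SemidirectProduct.inl from MonoidHom.range_eq_map _,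
        relIndex_map_map_of_injective _ _ hinj, relIndex_top_right]
    rw [hrel] at h1
    rw [hWc] at h2
    have hS : Nat.card (S : Subgroup M) = 2 ^ ((2 * m + 1) * 2) := by
      refine card_sylow π hπ hker
        (R := ((2 ^ (2 * m + 1)) ^ 2 + 1) * (2 ^ (2 * m + 1) - 1)) ?_ ?_ S
      · rw [Nat.card_congr e.toEquiv, CITGraph.card_lieSz hm hc, ← pow_mul, mul_assoc]
      · refine Odd.mul ?_ (Nat.Even.sub_odd (Nat.two_pow_pos _)
          (even_two.pow_of_ne_zero (by omega)) odd_one)
        exact ((even_two.pow_of_ne_zero (by omega)).pow_of_ne_zero two_ne_zero).add_one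
    rw [h.card] at h1 h2
    refine ⟨?_, hle.trans ?_⟩
    · rw [hS, ← pow_mul]
      rw [← pow_mul] at h2
      exact le_trans (le_of_eq (by ring_nf)) h2
    · rw [hS]
      rwa [← pow_mul] at h1
  · haveI := charP_of_card_eq_prime_pow (p := 2) (show Fintype.card F = 2 ^ (n * 2) by
      rw [hc, pow_mul])
    have hF : Nat.card F = (2 ^ n) ^ 2 := by rw [Nat.card_eq_fintype_card, hc]
    set φ := e.toMonoidHom.comp π
    have hφ : Function.Surjective φ := e.surjective.comp hπ
    have h21 : ¬ (2 = 2 ∧ n = 1) := fun h => by omega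
    have hS : Nat.card (S : Subgroup M) = 2 ^ (n * 3) := by
      have hq : Even (2 ^ n) := even_two.pow_of_ne_zero (by omega)
      have hg : Odd (Nat.gcd 3 (2 ^ n + 1)) := (by decide : Odd 3).of_dvd_nat (Nat.gcd_dvd_left _ _)
      have hcard : Nat.gcd 3 (2 ^ n + 1) * Nat.card (Cfsg.PSU 3 F (2 ^ n)) =
          2 ^ (n * 3) * (((2 ^ n) ^ 2 - 1) * ((2 ^ n) ^ 3 + 1)) := by
        refine Nat.eq_of_mul_eq_mul_left (Nat.succ_pos (2 ^ n)) ?_
        rw [Nat.succ_eq_add_one]
        rw [mul_left_comm, Unitary.card_PSU_mul hF (by norm_num : 2 ≤ 3), Unitary.card_GU hF,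
          Finset.prod_range_succ, Finset.prod_range_succ, Finset.prod_range_one,
          if_pos (by decide), if_neg (by decide), if_pos (by decide), ← pow_mul]
        norm_num
        ring
      obtain ⟨R, hR⟩ : 2 ^ (n * 3) ∣ Nat.card (Cfsg.PSU 3 F (2 ^ n)) :=
        (((Nat.coprime_two_left.2 hg).pow_left (n * 3))).dvd_of_dvd_mul_left ⟨_, hcard⟩
      have hodd : Odd (((2 ^ n) ^ 2 - 1) * ((2 ^ n) ^ 3 + 1)) :=
        (Nat.Even.sub_odd (Nat.one_le_pow _ _ (Nat.two_pow_pos n))
          (hq.pow_of_ne_zero two_ne_zero) odd_one).mul (hq.pow_of_ne_zero (by norm_num)).add_one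
      rw [hR, mul_left_comm] at hcard
      refine card_sylow π hπ hker (R := R) ?_
        (hodd.of_dvd_nat ⟨_, (Nat.eq_of_mul_eq_mul_left (Nat.two_pow_pos _) hcard).symm.trans
          (mul_comm _ _)⟩) S
      rw [Nat.card_congr e.toEquiv, hR]
    have h1 := SUThreeDisp.card_bound hF hVp h21 γ hγ φ hφ
    refine ⟨le_trans (le_of_eq ?_) h1, ?_⟩
    · rw [hS, ← pow_mul, ← pow_mul]; ring_nf
    obtain ⟨u, hu0, huu⟩ := AutPSU.exists_isotropic hF (n := 3) (by norm_num)
    obtain ⟨f, Hy⟩ := AutPSU.exists_hyp hF hu0 huu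
    obtain ⟨P, hP⟩ := AutPSU.exists_sylow_center hF Hy (by norm_num) 2
    obtain ⟨a, ha⟩ := MulAction.exists_smul_eq (Cfsg.PSU 3 F (2 ^ n)) (S.mapSurjective hφ) P
    have hmem : ∀ x ∈ (S : Subgroup M) ⊓ centralizer ((S : Subgroup M) : Set M),
        a * φ x * a⁻¹ ∈ AutPSU.xg hF u Hy.ee := by
      rintro x ⟨hx, hxc⟩
      rw [← hP]
      refine ⟨?_, fun y hy => ?_⟩
      · rw [← ha, Sylow.coe_subgroup_smul, ← MulAut.conj_apply]
        exact Subgroup.smul_mem_pointwise_smul _ (MulAut.conj a) _ ⟨x, hx, rfl⟩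
      · rw [← ha, Sylow.coe_subgroup_smul] at hy
        obtain ⟨_, ⟨w, hw, rfl⟩, rfl⟩ := hy
        have hcomm : x * w = w * x := (mem_centralizer_iff.1 hxc w hw).symm
        show a * φ x * a⁻¹ * (MulAut.conj a (φ w)) = MulAut.conj a (φ w) * (a * φ x * a⁻¹)
        rw [← MulAut.conj_apply, ← map_mul, ← map_mul, ← map_mul, ← map_mul, hcomm]
    obtain ⟨c, hc', hcz⟩ := (AutPSU.mem_xg hF).1 (hmem z ⟨hz, hzc⟩)
    have hc0 : c ≠ 0 := fun h => hπz (e.injective (by
      subst h
      show φ z = e 1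
      rw [map_one, ← conj_eq_one_iff (a := a), ← hcz]
      refine (congrArg _ (AutPSU.suMat_inj ?_)).trans (QuotientGroup.mk_one _)
      exact AutPSU.utv_zero u))
    have h2 := SUThreeDisp.le_disp hF hVp h21 γ hγ φ hφ (s := z) hu0 Hy.ee hc' hc0
      (isConj_iff.2 ⟨a⁻¹, by rw [hcz]; group⟩)
    refine le_trans ?_ h2
    -- at most `q` elements in the centre
    have hroots : Nat.card {c : F // c + c ^ 2 ^ n = 0} ≤ (2 ^ n) ^ 2 := by
      rw [← hF]; exact Nat.card_le_card_of_injective _ Subtype.val_injective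
    refine le_trans ?_ hroots
    refine le_trans (Nat.card_le_card_of_injective
      (fun x => (⟨a * φ x.1 * a⁻¹, hmem x.1 x.2⟩ : AutPSU.xg hF u Hy.ee)) ?_) ?_
    · rintro ⟨x, hx⟩ ⟨y, hy⟩ hxy
      have h := mul_left_cancel (mul_right_cancel (congrArg Subtype.val hxy))
      obtain ⟨l, hl⟩ := S.2 ⟨x⁻¹ * y, mul_mem (inv_mem hx.1) hy.1⟩
      refine Subtype.ext (inv_mul_eq_one.1 (eq_one_of_map_eq_one π hker
        (congrArg Subtype.val hl) ?_))
      rw [map_mul, map_inv, inv_mul_eq_one]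
      exact e.injective h
    · refine Nat.card_le_card_of_surjective
        (fun c => (⟨_, (AutPSU.mem_xg hF).2 ⟨c.1, c.2, rfl⟩⟩ : AutPSU.xg hF u Hy.ee)) ?_
      rintro ⟨x, hx⟩
      obtain ⟨c, hc, rfl⟩ := (AutPSU.mem_xg hF).1 hx
      exact ⟨⟨c, hc⟩, rfl⟩

end CfsgLib.Bender.ModuleDim
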