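import Cfsg.Agent.MinDeg.CrossWeight
import Cfsg.Agent.InvChar.UniqueInvolution
import Cfsg.Agent.Invol.IsolatedApps
import Mathlib.RingTheory.Flat.Basic

/-!
Faithful modules over the field with two elements for an odd subgroup normalised by a 2-group with
one involution that moves it.
-/

set_option autoImplicit false
set_option linter.unusedSectionVars false
set_option linter.style.haveILetI false

namespace CfsgLib.Bender.ModuleDim

open Subgroup

variable {G : Type*} [Group G] [Finite G] {V : Type*} [AddCommGroup V] [Module (ZMod 2) V]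
  [Module.Finite (ZMod 2) V] {ρ : Representation (ZMod 2) G V}

section Free

open scoped TensorProduct

/-- An abelian group of odd order inverted by the involution of a 2-group normalising it. -/
theorem card_le_finrank (hρ : Function.Injective ρ) {S A : Subgroup G} {t : G}
    (hun : ∀ s ∈ S, s ≠ 1 → t ∈ zpowers s) (hSA : S ≤ normalizer (A : Set G))
    (hinv : ∀ a ∈ A, t * a * t⁻¹ = a⁻¹) (hodd : Odd (Nat.card A)) (hA : A ≠ ⊥) :
    Nat.card S ≤ Module.finrank (ZMod 2) V := by
  classical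
  haveI : Fact (Nat.Prime 2) := ⟨Nat.prime_two⟩
  have hcomm : ∀ a b : A, a * b = b * a := fun a b => Subtype.ext (by
    have h := hinv _ (mul_mem a.2 b.2)
    rw [show t * ((a : G) * b) * t⁻¹ = (t * a * t⁻¹) * (t * b * t⁻¹) by group, hinv _ a.2,
      hinv _ b.2, mul_inv_rev] at h
    rw [Subgroup.coe_mul, Subgroup.coe_mul, ← inv_inj, mul_inv_rev, mul_inv_rev]
    exact h.symm)
  letI : CommGroup A := { (inferInstance : Group A) with mul_comm := hcomm }
  obtain ⟨a, ha, ha1⟩ := A.bot_or_exists_ne_one.resolve_left hA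
  set K := AlgebraicClosure (ZMod 2)
  haveI : CharP K 2 := charP_of_injective_algebraMap (algebraMap (ZMod 2) K).injective 2
  let r : G →* Module.End K (K ⊗[ZMod 2] V) :=
    ((Module.End.baseChangeHom (ZMod 2) K V : Module.End (ZMod 2) V →ₐ[ZMod 2] _) :
      Module.End (ZMod 2) V →* _).comp ρ
  have hr : Function.Injective r :=
    (LinearMap.baseChangeHom_injective (ZMod 2) V K).comp hρ
  let e : Multiplicative (Additive A) →* G :=
    A.subtype.comp { toFun := fun x => x.toAdd.toMul, map_one' := rfl, map_mul' := fun _ _ => rfl }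
  have hoa : Odd (orderOf (⟨a, ha⟩ : A)) := hodd.of_dvd_nat (_root_.orderOf_dvd_natCard _)
  have hN : ((orderOf (⟨a, ha⟩ : A) : ℕ) : K) ≠ 0 := by
    rw [Ne, CharP.cast_eq_zero_iff K 2]
    exact fun h => Nat.not_even_iff_odd.2 hoa (even_iff_two_dvd.2 h)
  obtain ⟨χ, v, hv0, hv, hχ⟩ := MinDeg.Cross.exists_char r e
    (x₀ := Additive.ofMul (⟨a, ha⟩ : A)) hN
    (by rw [← ofMul_pow, pow_orderOf_eq_one, ofMul_one])
    (fun h => ha1 (hr (h.trans r.map_one.symm)))
  -- conjugate characters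
  have hmem : ∀ (s : S) (x : A), (s : G)⁻¹ * x * s ∈ A := fun s x =>
    (mem_normalizer_iff''.1 (hSA s.2) _).1 x.2
  let σ : S → A → A := fun s x => ⟨(s : G)⁻¹ * x * s, hmem s x⟩
  have hσ : ∀ s x y, σ s (x * y) = σ s x * σ s y := fun s x y => Subtype.ext (by
    show (s : G)⁻¹ * ((x : G) * y) * s = ((s : G)⁻¹ * x * s) * ((s : G)⁻¹ * y * s)
    group)
  have hσ1 : ∀ s, σ s 1 = 1 := fun s => Subtype.ext (by
    show (s : G)⁻¹ * ((1 : A) : G) * s = 1
    simp)
  let χs : S → AddChar (Additive A) K := fun s =>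
    { toFun := fun x => χ (Additive.ofMul (σ s x.toMul))
      map_zero_eq_one' := by
        show χ (Additive.ofMul (σ s 1)) = 1
        rw [hσ1, ofMul_one, AddChar.map_zero_eq_one]
      map_add_eq_mul' := fun x y => by
        show χ (Additive.ofMul (σ s (x.toMul * y.toMul))) = _
        rw [hσ, ofMul_mul, AddChar.map_add_eq_mul] }
  have hinj : Function.Injective χs := by
    intro s u hsu
    by_contra hne
    obtain ⟨g, hg⟩ : ∃ g : S, (g : G) = (u : G)⁻¹ * s := ⟨u⁻¹ * s, rfl⟩
    have hg1 : (g : G) ≠ 1 := fun h => hne (Subtype.ext (inv_mul_eq_one.1 (hg.symm.trans h)).symm)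
    obtain ⟨i, hi⟩ := hun _ g.2 hg1
    -- `χ` is fixed by `g`
    have hfix : ∀ x : A, χ (Additive.ofMul (σ g x)) = χ (Additive.ofMul x) := by
      intro x
      have hx : (u : G) * x * (u : G)⁻¹ ∈ A := (mem_normalizer_iff.1 (hSA u.2) _).1 x.2
      have h := DFunLike.congr_fun hsu (Additive.ofMul (⟨_, hx⟩ : A))
      change χ (Additive.ofMul (σ s ⟨_, hx⟩)) = χ (Additive.ofMul (σ u ⟨_, hx⟩)) at h
      rw [show σ u ⟨_, hx⟩ = x from Subtype.ext (by
        show (u : G)⁻¹ * ((u : G) * x * (u : G)⁻¹) * u = x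
        group)] at h
      refine Eq.trans ?_ h
      congr 2
      refine Subtype.ext ?_
      show (g : G)⁻¹ * x * g = (s : G)⁻¹ * ((u : G) * x * (u : G)⁻¹) * s
      rw [hg]
      group
    let P : Subgroup G :=
      { carrier := {k | k ∈ normalizer (A : Set G) ∧ ∀ (x : A) (h : k⁻¹ * (x : G) * k ∈ A),
          χ (Additive.ofMul (⟨_, h⟩ : A)) = χ (Additive.ofMul x)}
        one_mem' := ⟨one_mem _, fun x h => by
          congr 2; exact Subtype.ext (by simp)⟩
        mul_mem' := fun {k l} hk hl => ⟨mul_mem hk.1 hl.1, fun x h => by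
          have h1 : k⁻¹ * (x : G) * k ∈ A := (mem_normalizer_iff''.1 hk.1 _).1 x.2
          have h2 : l⁻¹ * (k⁻¹ * (x : G) * k) * l ∈ A := (mem_normalizer_iff''.1 hl.1 _).1 h1
          rw [← hk.2 x h1, ← hl.2 ⟨_, h1⟩ h2]
          congr 2; exact Subtype.ext (by show (k * l)⁻¹ * _ * (k * l) = _; group)⟩
        inv_mem' := fun {k} hk => ⟨inv_mem hk.1, fun x h => by
          have h2 : k⁻¹ * (k⁻¹⁻¹ * (x : G) * k⁻¹) * k ∈ A := by simpa [mul_assoc] using x.2
          rw [← hk.2 ⟨_, h⟩ h2]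
          congr 2; exact Subtype.ext (by show _ = (x : G); group)⟩ }
    have hgP : (g : G) ∈ P := ⟨hSA g.2, fun x _ => hfix x⟩
    have htP : t ∈ P := by rw [← hi]; exact zpow_mem hgP i
    have ht' : t⁻¹ * a * t = a⁻¹ := by
      have h := hinv a⁻¹ (inv_mem ha)
      rw [inv_inv] at h
      calc t⁻¹ * a * t = t⁻¹ * (t * a⁻¹ * t⁻¹) * t := by rw [h]
        _ = a⁻¹ := by group
    have h3 := htP.2 ⟨a, ha⟩ (ht' ▸ inv_mem ha)
    rw [show (⟨t⁻¹ * a * t, ht' ▸ inv_mem ha⟩ : A) = (⟨a, ha⟩ : A)⁻¹ from Subtype.ext ht'] at h3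
    rw [ofMul_inv] at h3
    have h4 : χ (Additive.ofMul (⟨a, ha⟩ : A)) * χ (Additive.ofMul (⟨a, ha⟩ : A)) = 1 := by
      conv_lhs => arg 1; rw [← h3]
      rw [← AddChar.map_add_eq_mul, neg_add_cancel, AddChar.map_zero_eq_one]
    exact hχ (CharTwo.add_eq_zero.1 (mul_self_eq_zero.1 (show
      (χ (Additive.ofMul (⟨a, ha⟩ : A)) + 1) * (χ (Additive.ofMul (⟨a, ha⟩ : A)) + 1) = 0 by
        rw [CharTwo.add_mul_self, h4, one_mul, CharTwo.add_self_eq_zero])))
  haveI : Fintype S := Fintype.ofFinite S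
  have h := MinDeg.Cross.card_le_finrank r e χs hinj (fun s => r s v) (fun s h0 => hv0 (by
    have := congrArg (r (s : G)⁻¹) h0
    rwa [← Module.End.mul_apply, ← map_mul, inv_mul_cancel, map_one, map_zero] at this))
    (fun s x => by
      show r (e (Multiplicative.ofAdd x)) (r s v) = χ (Additive.ofMul (σ s x.toMul)) • r s v
      rw [← map_smul, ← hv, ← Module.End.mul_apply, ← Module.End.mul_apply, ← map_mul, ← map_mul]
      congr 2
      show (x.toMul : G) * s = (s : G) * ((s : G)⁻¹ * (x.toMul : G) * s)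
      group)
  rwa [Module.finrank_baseChange, ← Nat.card_eq_fintype_card] at h

end Free

section Unipotent

/-- An element of order `2 ^ (j + 1)` needs more than `2 ^ j` dimensions. -/
theorem two_pow_lt_finrank (hρ : Function.Injective ρ) {x : G} {j : ℕ}
    (hx : orderOf x = 2 ^ (j + 1)) : 2 ^ j < Module.finrank (ZMod 2) V := by
  set f : Module.End (ZMod 2) V := ρ x
  have hpow : ∀ i : ℕ, (f - 1) ^ 2 ^ i = f ^ 2 ^ i - 1 := by
    intro i
    induction i with
    | zero => simp
    | succ i ih =>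
      rw [pow_succ, pow_mul, ih, pow_mul, sq, sq, sub_mul, mul_sub, mul_one, one_mul]
      have h2 : f ^ 2 ^ i + f ^ 2 ^ i = 0 := ZModModule.add_self _
      rw [show f ^ 2 ^ i * f ^ 2 ^ i - f ^ 2 ^ i - (f ^ 2 ^ i - 1) =
        f ^ 2 ^ i * f ^ 2 ^ i - (f ^ 2 ^ i + f ^ 2 ^ i) + 1 by abel, h2, sub_zero,
        ← ZModModule.sub_eq_add]
  have hnil : IsNilpotent (f - 1) := ⟨2 ^ (j + 1), by
    rw [hpow, ← map_pow, ← hx, pow_orderOf_eq_one, map_one, sub_self]⟩
  have hd : (f - 1) ^ Module.finrank (ZMod 2) V = 0 := by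
    have h := (f - 1).aeval_self_charpoly
    rwa [IsNilpotent.charpoly_eq_X_pow_finrank hnil, Polynomial.aeval_X_pow] at h
  by_contra hle
  have h0 := pow_eq_zero_of_le (not_lt.1 hle) hd
  rw [hpow, sub_eq_zero, ← map_pow, ← map_one ρ] at h0
  have h2 := Nat.le_of_dvd (Nat.two_pow_pos j) (orderOf_dvd_of_pow_eq_one (hρ h0))
  rw [hx, pow_succ] at h2
  have := Nat.two_pow_pos j
  omega

/-- The orders of subgroups divide the order of the general linear group. -/
theorem card_dvd (hρ : Function.Injective ρ) (Q : Subgroup G) :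
    Nat.card Q ∣ ∏ i ∈ Finset.range (Module.finrank (ZMod 2) V),
      (2 ^ Module.finrank (ZMod 2) V - 2 ^ i) := by
  haveI : Fact (Nat.Prime 2) := ⟨Nat.prime_two⟩
  set d := Module.finrank (ZMod 2) V
  let b := Module.finBasis (ZMod 2) V
  let ψ : G →* GL (Fin d) (ZMod 2) :=
    (((LinearMap.toMatrixAlgEquiv b : Module.End (ZMod 2) V ≃ₐ[ZMod 2] _) :
      Module.End (ZMod 2) V →* _).comp ρ).toHomUnits
  have hψ : Function.Injective ψ := fun g g' h =>
    hρ ((LinearMap.toMatrixAlgEquiv b).injective (congrArg Units.val h))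
  have h1 : Nat.card (Q.map ψ) = Nat.card Q := Subgroup.card_map_of_injective hψ
  have h2 := Subgroup.card_subgroup_dvd_card (Q.map ψ)
  rw [h1, Matrix.card_GL_field, ZMod.card] at h2
  rwa [Fin.prod_univ_eq_prod_range (fun i => 2 ^ d - 2 ^ i) d] at h2

end Unipotent

section Small

set_option synthInstance.maxSize 100000 in
set_option synthInstance.maxHeartbeats 2000000 in
set_option maxRecDepth 4000 in
/-- The numerical check on the general linear groups of small dimension. -/
theorem small_check : ∀ d < 10, ∀ q < 513, 2 < q → q % 2 = 1 →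
    q ^ 3 ∣ (∏ i ∈ Finset.range d, (2 ^ d - 2 ^ i)) →
    ¬ q ^ 7 ∣ (∏ i ∈ Finset.range d, (2 ^ d - 2 ^ i)) ∧
      ∀ i < 6, 1 ≤ i → q ^ (i + 1) ∣ (∏ l ∈ Finset.range d, (2 ^ d - 2 ^ l)) →
        ∀ k < 6, d < 2 * k → ¬ 2 ^ k ∣ q ^ i - 1 := by
  decide +kernel

/-- The module bound for a 2-group with one involution moving an invariant odd subgroup of prime
power order. -/
theorem two_mul_le_finrank (hρ : Function.Injective ρ) {S Q : Subgroup G} {t : G} {k q : ℕ}
    [Fact q.Prime] (hq : q ≠ 2) (hk : Nat.card S = 2 ^ k) (htS : t ∈ S) (ht : orderOf t = 2)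
    (huniq : ∀ s ∈ S, orderOf s = 2 → s = t) (hQ : IsPGroup q Q)
    (hSQ : S ≤ normalizer (Q : Set G)) (hmv : ¬ Q ≤ centralizer ({t} : Set G)) :
    2 * k ≤ Module.finrank (ZMod 2) V := by
  classical
  haveI : Fact (Nat.Prime 2) := ⟨Nat.prime_two⟩
  set d := Module.finrank (ZMod 2) V with hd
  have hS : IsPGroup 2 S := IsPGroup.of_card hk
  have hun : ∀ s ∈ S, s ≠ 1 → t ∈ zpowers s := by
    intro s hs hs1
    obtain ⟨i, hi⟩ := IsPGroup.iff_orderOf.1 hS ⟨s, hs⟩
    rw [← Subgroup.orderOf_coe] at hi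
    obtain ⟨j, rfl⟩ : ∃ j, i = j + 1 := Nat.exists_eq_succ_of_ne_zero fun h =>
      hs1 (orderOf_eq_one_iff.1 (by simpa [h] using hi))
    have h2 : orderOf (s ^ 2 ^ j) = 2 := by
      rw [orderOf_pow_of_dvd (by positivity) (by rw [hi]; exact Nat.pow_dvd_pow 2 (by omega)), hi,
        pow_succ, Nat.mul_div_cancel_left _ (Nat.two_pow_pos j)]
    exact huniq _ (pow_mem hs _) h2 ▸ pow_mem (mem_zpowers s) _
  obtain ⟨a, hQa⟩ := IsPGroup.iff_card.1 hQ
  have hQodd : Odd (Nat.card Q) := by
    rw [hQa]; exact ((Fact.out : q.Prime).odd_of_ne_two hq).pow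
  -- the inverted elements
  set I := {x : G // x ∈ Q ∧ t * x * t⁻¹ = x⁻¹}
  have htQ : ∀ x ∈ Q, t * x * t⁻¹ ∈ Q := fun x hx => (mem_normalizer_iff.1 (hSQ htS) x).1 hx
  have hI : (Q ⊓ centralizer ({t} : Set G)).relIndex Q = Nat.card I :=
    IsoApps.relIndex_eq_card_inverted (Invol.mul_self_eq_one ht) hQodd htQ
  have hIdvd : Nat.card I ∣ Nat.card Q := hI ▸ Subgroup.index_dvd_card _
  obtain ⟨i, hia, hi⟩ := (Nat.dvd_prime_pow Fact.out).1 (hQa ▸ hIdvd)
  have hi0 : i ≠ 0 := fun h => hmv (relIndex_eq_one.1 (by rw [hI, hi, h, pow_zero]) |>.trans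
    inf_le_right)
  by_cases hab : ∀ x ∈ Q, ∀ y ∈ Q, x * y = y * x
  · let A : Subgroup G :=
      { carrier := {x | x ∈ Q ∧ t * x * t⁻¹ = x⁻¹}
        one_mem' := ⟨one_mem Q, by simp⟩
        mul_mem' := fun {x y} hx hy => ⟨mul_mem hx.1 hy.1, by
          rw [mul_inv_rev, show t * (x * y) * t⁻¹ = (t * x * t⁻¹) * (t * y * t⁻¹) by group, hx.2,
            hy.2, hab _ (inv_mem hx.1) _ (inv_mem hy.1)]⟩
        inv_mem' := fun {x} hx => ⟨inv_mem hx.1, by
          rw [show t * x⁻¹ * t⁻¹ = (t * x * t⁻¹)⁻¹ by group, hx.2]⟩ }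
    have hA : Nat.card A = q ^ i := hi
    have hSA : S ≤ normalizer (A : Set G) := by
      intro s hs
      refine mem_normalizer_fintype ?_
      intro x hx
      refine ⟨(mem_normalizer_iff.1 (hSQ hs) x).1 hx.1, ?_⟩
      have hst : Commute s t := by
        have h1 := huniq _ (mul_mem (mul_mem hs htS) (inv_mem hs))
          ((Invol.orderOf_conj_eq s t).trans ht)
        exact mul_inv_eq_iff_eq_mul.1 h1
      show t * (s * x * s⁻¹) * t⁻¹ = (s * x * s⁻¹)⁻¹
      rw [show (s * x * s⁻¹)⁻¹ = s * x⁻¹ * s⁻¹ by group, ← hx.2]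
      calc t * (s * x * s⁻¹) * t⁻¹ = (t * s) * x * (t * s)⁻¹ := by group
        _ = (s * t) * x * (s * t)⁻¹ := by rw [hst.eq]
        _ = _ := by group
    have h := card_le_finrank hρ hun hSA (fun x hx => hx.2)
      (hA ▸ ((Fact.out : q.Prime).odd_of_ne_two hq).pow) (fun h => by
        rw [h, Subgroup.card_bot] at hA
        exact absurd ((Nat.pow_eq_one).1 hA.symm)
          (by simp [(Fact.out : q.Prime).ne_one, hi0]))
    rw [hk] at h
    refine le_trans ?_ h
    have := Nat.lt_two_pow_self (n := k - 1)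
    rcases Nat.eq_zero_or_pos k with rfl | hk0
    · simp
    · have : 2 ^ k = 2 * 2 ^ (k - 1) := by rw [← pow_succ', Nat.sub_add_cancel hk0]
      omega
  · by_contra hlt
    have hia' : i < a := lt_of_le_of_ne hia fun h => hab fun x hx y hy => by
      have hC : Q ⊓ centralizer ({t} : Set G) = ⊥ := by
        have h1 := Subgroup.card_mul_index ((Q ⊓ centralizer ({t} : Set G)).subgroupOf Q)
        rw [← Subgroup.relIndex, hI, hi, h, hQa,
          Nat.card_congr (subgroupOfEquivOfLe inf_le_left).toEquiv] at h1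
        exact Subgroup.card_eq_one.1
          (Nat.eq_of_mul_eq_mul_right (pow_pos (Fact.out : q.Prime).pos a) (by rw [h1, one_mul]))
      have hall : ∀ z ∈ Q, t * z * t⁻¹ = z⁻¹ := by
        intro z hz
        let f : I → Q := fun w => ⟨w.1, w.2.1⟩
        have hf : Function.Surjective f := ((Nat.bijective_iff_injective_and_card f).2
          ⟨fun w w' e => Subtype.ext (congrArg (fun u : Q => (u : G)) e),
            by rw [hi, h, hQa]⟩).2
        obtain ⟨w, hw⟩ := hf ⟨z, hz⟩
        have hw' : w.1 = z := congrArg Subtype.val hw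
        exact hw' ▸ w.2.2
      have h1 := hall _ (mul_mem hx hy)
      rw [show t * (x * y) * t⁻¹ = (t * x * t⁻¹) * (t * y * t⁻¹) by group, hall x hx, hall y hy,
        mul_inv_rev] at h1
      rw [← inv_inj, mul_inv_rev, mul_inv_rev]
      exact h1.symm
    have ha3 : 3 ≤ a := by
      by_contra ha
      refine hab fun x hx y hy => ?_
      have hcy : ∀ x y : Q, x * y = y * x := by
        rcases (show a = 0 ∨ a = 1 ∨ a = 2 by omega) with rfl | rfl | rfl
        · intro x y
          haveI := (Nat.card_eq_one_iff_unique.1 (hQa.trans (pow_zero q))).1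
          exact Subsingleton.elim _ _
        · haveI := isCyclic_of_prime_card (hQa.trans (pow_one q))
          exact fun x y => (IsCyclic.commGroup).mul_comm x y
        · exact (IsPGroup.isMulCommutative_of_card_eq_prime_sq hQa).is_comm.comm
      exact congrArg Subtype.val (hcy ⟨x, hx⟩ ⟨y, hy⟩)
    -- free action on the inverted elements
    have hst : ∀ s ∈ S, Commute s t := fun s hs => mul_inv_eq_iff_eq_mul.1
      (huniq _ (mul_mem (mul_mem hs htS) (inv_mem hs)) ((Invol.orderOf_conj_eq s t).trans ht))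
    let X := {x : I // (x : G) ≠ 1}
    letI : MulAction S X :=
      { smul := fun s x => ⟨⟨(s : G) * x.1.1 * (s : G)⁻¹,
          (mem_normalizer_iff.1 (hSQ s.2) _).1 x.1.2.1, by
            rw [show ((s : G) * x.1.1 * (s : G)⁻¹)⁻¹ = (s : G) * x.1.1⁻¹ * (s : G)⁻¹ by group,
              ← x.1.2.2]
            calc t * ((s : G) * x.1.1 * (s : G)⁻¹) * t⁻¹
                = (t * s) * x.1.1 * (t * (s : G))⁻¹ := by group
              _ = ((s : G) * t) * x.1.1 * ((s : G) * t)⁻¹ := by rw [(hst s s.2).eq]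
              _ = _ := by group⟩, fun h => x.2 (conj_eq_one_iff.1 h)⟩
        one_smul := fun x => Subtype.ext (Subtype.ext (by
          show (1 : G) * x.1.1 * (1 : G)⁻¹ = x.1.1; group))
        mul_smul := fun s u x => Subtype.ext (Subtype.ext (by
          show (s : G) * u * x.1.1 * ((s : G) * u)⁻¹ = (s : G) * ((u : G) * x.1.1 * (u : G)⁻¹) * (s : G)⁻¹
          group)) }
    have hfree : ∀ x : X, MulAction.stabilizer S x = ⊥ := by
      refine fun x => eq_bot_iff.2 fun s hs => mem_bot.2 (by_contra fun hne => ?_)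
      obtain ⟨l, hl⟩ := hun s s.2 fun h => hne (Subtype.ext h)
      have h1 : (s : G) * x.1.1 * (s : G)⁻¹ = x.1.1 :=
        congrArg (fun y : X => y.1.1) (MulAction.mem_stabilizer_iff.1 hs)
      have h2 : Commute t x.1.1 := hl ▸ (Commute.zpow_left (mul_inv_eq_iff_eq_mul.1 h1) l)
      have h3 : x.1.1 ^ 2 = 1 := by
        rw [sq, mul_eq_one_iff_eq_inv, ← x.1.2.2, h2.eq, mul_inv_cancel_right]
      exact x.2 (orderOf_eq_one_iff.1 (Nat.eq_one_of_dvd_coprimes
        (Nat.coprime_two_left.2 hQodd) (orderOf_dvd_of_pow_eq_one h3)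
        (Subgroup.orderOf_dvd_natCard Q x.1.2.1)))
    have hdvd : 2 ^ k ∣ q ^ i - 1 := by
      have h1 : Nat.card X = Nat.card (Quotient (MulAction.orbitRel S X)) * 2 ^ k := by
        rw [Nat.card_congr (MulAction.selfEquivOrbitsQuotientProd hfree), Nat.card_prod, hk]
      have h2 : Nat.card X = q ^ i - 1 := by
        haveI : Fintype I := Fintype.ofFinite I
        rw [← hi, Nat.card_eq_fintype_card, Nat.card_eq_fintype_card,
          Fintype.card_subtype_compl (fun x : I => (x : G) = 1)]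
        congr 1
        exact Fintype.card_eq_one_iff.2 ⟨⟨⟨1, one_mem Q, by simp⟩, rfl⟩,
          fun y => Subtype.ext (Subtype.ext y.2)⟩
      exact ⟨_, (h2.symm.trans h1).trans (mul_comm _ _)⟩
    have hk5 : k < 6 := by
      by_contra hk6
      have hu : ∀ x y : S, orderOf x = 2 → orderOf y = 2 → y ∈ zpowers x := by
        intro x y hx hy
        have h1 : (y : G) = x := (huniq _ y.2 ((Subgroup.orderOf_coe y).trans hy)).trans
          (huniq _ x.2 ((Subgroup.orderOf_coe x).trans hx)).symm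
        rw [Subtype.ext h1]
        exact mem_zpowers x
      obtain ⟨x, j, hj, hxo⟩ : ∃ (x : S) (j : ℕ), k - 2 ≤ j ∧ orderOf x = 2 ^ (j + 1) := by
        rcases UniqueInvol.structure_thm hS hu with hc | ⟨-, x, n, -, hx, hidx, -⟩
        · obtain ⟨x, hx⟩ := hc.exists_generator
          exact ⟨x, k - 1, by omega, by
            rw [orderOf_eq_card_of_forall_mem_zpowers hx, hk, Nat.sub_add_cancel (by omega)]⟩
        · have h1 := Subgroup.card_mul_index (zpowers x)
          rw [hidx, Nat.card_zpowers, hx, hk, ← pow_succ] at h1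
          have := Nat.pow_right_injective le_rfl h1
          exact ⟨x, n - 1, by omega, by rw [hx, Nat.sub_add_cancel (by omega)]⟩
      have h1 := two_pow_lt_finrank hρ (x := (x : G)) (by rw [Subgroup.orderOf_coe, hxo])
      have h2 : 2 ^ (k - 2) ≤ 2 ^ j := Nat.pow_le_pow_right (by norm_num) hj
      have h3 : 2 * k ≤ 2 ^ (k - 2) + 1 := by
        obtain ⟨m, rfl⟩ := Nat.exists_eq_add_of_le (Nat.le_of_not_lt hk6)
        clear * -
        induction m with
        | zero => norm_num
        | succ m ih =>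
          rw [show 6 + (m + 1) - 2 = (6 + m - 2) + 1 by omega, pow_succ]
          omega
      omega
    have hQd := card_dvd hρ Q
    rw [hQa] at hQd
    have hd10 : d < 10 := by omega
    have hq513 : q < 513 := by
      have h1 : q ∣ ∏ l ∈ Finset.range d, (2 ^ d - 2 ^ l) :=
        (dvd_pow_self q (by omega)).trans hQd
      obtain ⟨l, hl, h2⟩ := ((Fact.out : q.Prime).prime.dvd_finsetProd_iff _).1 h1
      have h3 : 2 ^ d ≤ 2 ^ 9 := Nat.pow_le_pow_right (by norm_num) (by omega)
      have h4 : 2 ^ l < 2 ^ d := Nat.pow_lt_pow_right (by norm_num) (Finset.mem_range.1 hl)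
      have h5 := Nat.le_of_dvd (Nat.sub_pos_of_lt h4) h2
      have h6 : 2 ^ d - 2 ^ l < 513 := by
        have := Nat.sub_le (2 ^ d) (2 ^ l)
        generalize 2 ^ d - 2 ^ l = n at this ⊢
        generalize 2 ^ d = m at this h3
        omega
      exact h5.trans_lt h6
    obtain ⟨h7, hsm⟩ := small_check d hd10 q hq513
      (lt_of_le_of_ne (Fact.out : q.Prime).two_le (Ne.symm hq))
      (Nat.odd_iff.1 ((Fact.out : q.Prime).odd_of_ne_two hq))
      ((Nat.pow_dvd_pow q ha3).trans hQd)
    have ha7 : a < 7 := Nat.lt_of_not_le fun h => h7 ((Nat.pow_dvd_pow q h).trans hQd)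
    exact hsm i (by omega) (by omega) ((Nat.pow_dvd_pow q hia').trans hQd) k hk5 (by omega) hdvd

end Small

end CfsgLib.Bender.ModuleDim
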