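import Cfsg.Agent.Bender.ModuleDim.Bound
import Cfsg.Agent.Bender.ModuleDim.RankOne

/-!
Faithful modules over the field with two elements for groups with a strongly embedded subgroup.
-/

set_option autoImplicit false
set_option linter.unusedSectionVars false
set_option linter.style.haveILetI false

namespace CfsgLib.Bender.ModuleDim

open Subgroup
open CfsgLib.SL2Displacement (disp)

universe u v

variable {G : Type u} [Group G] [Finite G] {H : Subgroup G}

/-- Without commuting involutions some invariant Sylow subgroup of the odd core is moved by the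
involution of a Sylow 2-subgroup. -/
theorem exists_moved (hse : Cfsg.IsStronglyEmbedded H)
    (heq : ∀ u v : G, orderOf u = 2 → orderOf v = 2 → Commute u v → u = v)
    (S : Sylow 2 G) {t : G} (ht : orderOf t = 2) :
    ∃ (q : ℕ) (_ : Fact q.Prime) (Q : Subgroup G), q ≠ 2 ∧ IsPGroup q Q ∧
      (S : Subgroup G) ≤ normalizer (Q : Set G) ∧ ¬ Q ≤ centralizer ({t} : Set G) := by
  classical
  haveI : Fact (Nat.Prime 2) := ⟨Nat.prime_two⟩
  set O := Cfsg.oddCore G with hO
  haveI : O.Normal := Solvable.pPrimeCore_normal 2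
  have hOC : ¬ O ≤ centralizer ({t} : Set G) := by
    intro hle
    have hcen : ∀ g : G, Commute g t := by
      intro g
      obtain ⟨o, ho, c, hc, rfl⟩ := IsoApps.exists_mul (ZStar.isolated_of_commuting heq ht) g
      exact Commute.mul_left (mem_centralizer_singleton_iff.1 (hle ho))
        (mem_centralizer_singleton_iff.1 hc)
    obtain ⟨a, haH, ha⟩ := StrongEmbed.exists_invol hse
    obtain ⟨c, hc⟩ := isConj_iff.1 (StrongEmbed.isConj_of_invols hse ha ht)
    have hat : a = t := by
      have h1 : a = c⁻¹ * t * c := by rw [← hc]; group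
      rw [h1, mul_assoc, (hcen c).symm.eq, inv_mul_cancel_left]
    obtain ⟨g, hg⟩ := Consumers.exists_not_mem hse
    exact hg (StrongEmbed.mem_of_commute hse (hat ▸ haH) ht (hcen g))
  by_contra hall
  refine hOC ?_
  set C : Subgroup O := (centralizer ({t} : Set G)).subgroupOf O
  suffices h : Nat.card O ∣ Nat.card C by
    exact subgroupOf_eq_top.1 (eq_top_of_card_eq C (Nat.dvd_antisymm C.card_subgroup_dvd_card h))
  refine (Nat.factorization_le_iff_dvd Nat.card_pos.ne' Nat.card_pos.ne').1 fun q => ?_
  by_cases hq : q.Prime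
  swap
  · rw [Nat.factorization_eq_zero_of_not_prime _ hq]; exact Nat.zero_le _
  haveI : Fact q.Prime := ⟨hq⟩
  rcases eq_or_ne q 2 with rfl | hq2
  · rw [Nat.factorization_eq_zero_of_not_dvd fun h =>
      Nat.not_even_iff_odd.2 IsoApps.odd_oddCore (even_iff_two_dvd.2 h)]
    exact Nat.zero_le _
  obtain ⟨P⟩ : Nonempty (Sylow q O) := inferInstance
  set P₀ : Subgroup G := (P : Subgroup O).map O.subtype
  have hN : normalizer (P₀ : Set G) ⊔ O = ⊤ := Sylow.normalizer_sup_eq_top P
  obtain ⟨T⟩ : Nonempty (Sylow 2 (normalizer (P₀ : Set G))) := inferInstance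
  set T₀ : Subgroup G := (T : Subgroup _).map (normalizer (P₀ : Set G)).subtype
  have hT₀ : Nat.card T₀ = Nat.card (S : Subgroup G) := by
    have hidx : Odd (normalizer (P₀ : Set G)).index := by
      have hd : (normalizer (P₀ : Set G)).index ∣ Nat.card O := by
        have h := Solvable.card_sup_mul_card_inf (A := normalizer (P₀ : Set G)) (K := O)
          (fun a _ => by rw [normalizer_eq_top]; exact mem_top a)
        rw [hN, card_top, ← Subgroup.card_mul_index (normalizer (P₀ : Set G)), mul_assoc] at h
        exact ⟨_, (Nat.eq_of_mul_eq_mul_left Nat.card_pos h).symm⟩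
      exact IsoApps.odd_oddCore.of_dvd_nat hd
    rw [card_map_of_injective (normalizer (P₀ : Set G)).subtype_injective, T.card_eq_multiplicity,
      S.card_eq_multiplicity, ← Subgroup.card_mul_index (normalizer (P₀ : Set G)),
      Nat.factorization_mul Nat.card_pos.ne' Subgroup.index_ne_zero_of_finite, Finsupp.add_apply,
      Nat.factorization_eq_zero_of_not_dvd (n := (normalizer (P₀ : Set G)).index) fun h =>
        Nat.not_even_iff_odd.2 hidx (even_iff_two_dvd.2 h), add_zero]
  obtain ⟨c, hc⟩ := MulAction.exists_smul_eq G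
    (Sylow.ofCard T₀ (hT₀.trans S.card_eq_multiplicity)) S
  set Q := P₀.map (MulAut.conj c).toMonoidHom
  have hQO : Q ≤ O := by
    rintro _ ⟨x, hx, rfl⟩
    exact (inferInstance : O.Normal).conj_mem x (map_subtype_le _ hx) c
  have hQ : IsPGroup q Q := (P.2.map _).map _
  have hSN : (S : Subgroup G) ≤ normalizer (Q : Set G) := by
    rw [← hc, Sylow.coe_subgroup_smul]
    rintro _ ⟨x, hx, rfl⟩
    exact Subgroup.le_normalizer_map (MulAut.conj c).toMonoidHom ⟨x, map_subtype_le _ hx, rfl⟩
  have hQC : Q ≤ centralizer ({t} : Set G) := by_contra fun h =>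
    hall ⟨q, ⟨hq⟩, Q, hq2, hQ, hSN, h⟩
  have hcard : Nat.card Q = q ^ (Nat.card O).factorization q := by
    calc Nat.card Q = Nat.card P₀ := card_map_of_injective (MulAut.conj c).injective
      _ = Nat.card (P : Subgroup O) := card_map_of_injective O.subtype_injective
      _ = _ := P.card_eq_multiplicity
  refine (hq.pow_dvd_iff_le_factorization Nat.card_pos.ne').1 (hcard ▸ ?_)
  rw [← (card_map_of_injective O.subtype_injective : Nat.card (C.map O.subtype) = Nat.card C),
    Subgroup.subgroupOf_map_subtype]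
  exact card_dvd_of_le (le_inf hQC hQO)

section Dims

variable {V : Type v} [AddCommGroup V] [Module (ZMod 2) V] [Module.Finite (ZMod 2) V]

/-- The action by automorphisms of the module written multiplicatively. -/
noncomputable def toMulAut (ρ : Representation (ZMod 2) G V) : G →* MulAut (Multiplicative V) where
  toFun g := AddEquiv.toMultiplicative
    { toFun := ρ g
      invFun := ρ g⁻¹
      left_inv := fun v => by
        rw [← Module.End.mul_apply, ← map_mul, inv_mul_cancel, map_one, Module.End.one_apply]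
      right_inv := fun v => by
        rw [← Module.End.mul_apply, ← map_mul, mul_inv_cancel, map_one, Module.End.one_apply]
      map_add' := map_add (ρ g) }
  map_one' := MulEquiv.ext fun v => by
    show Multiplicative.ofAdd (ρ 1 v.toAdd) = v
    rw [map_one]; rfl
  map_mul' g h := MulEquiv.ext fun v => by
    show Multiplicative.ofAdd (ρ (g * h) v.toAdd) = Multiplicative.ofAdd (ρ g (ρ h v.toAdd))
    rw [map_mul]; rfl

theorem card_disp (ρ : Representation (ZMod 2) G V) (g : G) :
    Nat.card (disp (toMulAut ρ g)).range =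
      2 ^ Module.finrank (ZMod 2) (LinearMap.range (ρ g - 1)) := by
  haveI : Finite V := Module.finite_of_finite (ZMod 2)
  have key : Nat.card (disp (toMulAut ρ g)).range = Nat.card (LinearMap.range (ρ g - 1)) := by
    refine Nat.card_congr (Multiplicative.toAdd.subtypeEquiv fun w => ?_)
    constructor
    · rintro ⟨v, rfl⟩
      refine ⟨v.toAdd, ?_⟩
      show ρ g v.toAdd - v.toAdd = (Multiplicative.ofAdd (ρ g v.toAdd) * v⁻¹).toAdd
      rw [toAdd_mul, toAdd_ofAdd, toAdd_inv, sub_eq_add_neg]
    · rintro ⟨x, hx⟩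
      refine ⟨Multiplicative.ofAdd x, Multiplicative.toAdd.injective ?_⟩
      rw [← hx]
      exact (sub_eq_add_neg (ρ g x) x).symm
  rw [key, Module.natCard_eq_pow_finrank (K := ZMod 2), Nat.card_zmod]

/-- The dimensions of a faithful module for a group with a strongly embedded subgroup. -/
theorem module_dims (hB : Consumers.Structure.{u}) (hse : Cfsg.IsStronglyEmbedded H) (S : Sylow 2 G)
    (ρ : Representation (ZMod 2) G V) (hρ : Function.Injective ρ) :
    (∀ k : ℕ, Nat.card ↥(S : Subgroup G) = 2 ^ k → 2 * k ≤ Module.finrank (ZMod 2) V) ∧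
    ∀ n : ℕ, (∀ z ∈ (S : Subgroup G) ⊓ centralizer ((S : Subgroup G) : Set G), z ^ 2 = 1) →
      Nat.card ↥((S : Subgroup G) ⊓ centralizer ((S : Subgroup G) : Set G)) = 2 ^ n →
      ∀ s ∈ (S : Subgroup G), s ≠ 1 →
        n ≤ Module.finrank (ZMod 2) ↥(LinearMap.range (ρ s - 1)) := by
  classical
  haveI : Fact (Nat.Prime 2) := ⟨Nat.prime_two⟩
  haveI : Finite V := Module.finite_of_finite (ZMod 2)
  set γ := toMulAut ρ
  have hγ : Function.Injective γ := fun g h e => hρ (LinearMap.ext fun v =>
    congrArg Multiplicative.toAdd (DFunLike.congr_fun e (Multiplicative.ofAdd v)))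
  have hV2 : ∀ v : Multiplicative V, v ^ 2 = 1 := fun v => Multiplicative.toAdd.injective (by
    rw [toAdd_pow, two_nsmul, toAdd_one]; exact ZModModule.add_self _)
  -- a central involution
  obtain ⟨a, -, ha⟩ := StrongEmbed.exists_invol hse
  obtain ⟨z, hzS, hzc, hz⟩ : ∃ z ∈ (S : Subgroup G),
      z ∈ centralizer ((S : Subgroup G) : Set G) ∧ orderOf z = 2 := by
    haveI : Nontrivial (S : Subgroup G) := (nontrivial_iff_ne_bot _).2
      (S.ne_bot_of_dvd_card (ha ▸ _root_.orderOf_dvd_natCard a))
    haveI := S.2.center_nontrivial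
    obtain ⟨w, hw⟩ := exists_prime_orderOf_dvd_card' (G := center (S : Subgroup G)) 2
      ((S.2.to_subgroup _).card_eq_or_dvd.resolve_left Finite.one_lt_card.ne')
    exact ⟨(w : (S : Subgroup G)), (w : (S : Subgroup G)).2, mem_centralizer_iff.2 fun y hy =>
      congrArg Subtype.val (mem_center_iff.1 w.2 ⟨y, hy⟩),
      by rw [Subgroup.orderOf_coe, Subgroup.orderOf_coe, hw]⟩
  -- every element moves as much as a central involution
  have hmono : ∀ s ∈ (S : Subgroup G), s ≠ 1 →
      Nat.card (disp (γ z)).range ≤ Nat.card (disp (γ s)).range := by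
    intro s hs hs1
    obtain ⟨i, hi⟩ := IsPGroup.iff_orderOf.1 S.2 ⟨s, hs⟩
    rw [← Subgroup.orderOf_coe] at hi
    obtain ⟨j, rfl⟩ : ∃ j, i = j + 1 := Nat.exists_eq_succ_of_ne_zero fun h =>
      hs1 (orderOf_eq_one_iff.1 (by simpa [h] using hi))
    have h2 : orderOf (s ^ 2 ^ j) = 2 := by
      rw [orderOf_pow_of_dvd (by positivity) (by rw [hi]; exact Nat.pow_dvd_pow 2 (by omega)), hi,
        pow_succ, Nat.mul_div_cancel_left _ (Nat.two_pow_pos j)]
    obtain ⟨c, hc⟩ := isConj_iff.1 (StrongEmbed.isConj_of_invols hse h2 hz)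
    rw [← hc, map_mul, map_mul, map_inv, SL2Displacement.card_range_conj, map_pow]
    exact Nat.le_of_dvd Nat.card_pos (card_dvd_of_le (SL2Displacement.range_pow_le _ _))
  by_cases hp : PairRank G
  · set O := Cfsg.oddCore G
    set L := Cfsg.pElementClosure 2 (⊤ : Subgroup (G ⧸ O))
    set π₀ := QuotientGroup.mk' O
    set M : Subgroup G := L.comap π₀
    set π : M →* L := π₀.subgroupComap L
    have hπ : Function.Surjective π :=
      MonoidHom.subgroupComap_surjective_of_surjective π₀ L (QuotientGroup.mk'_surjective O)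
    have hker : Odd (Nat.card π.ker) := IsoApps.odd_oddCore.of_dvd_nat (by
      refine (dvd_of_eq (card_map_of_injective M.subtype_injective).symm).trans (card_dvd_of_le ?_)
      rintro _ ⟨x, hx, rfl⟩
      exact (QuotientGroup.eq_one_iff _).1 (congrArg Subtype.val hx))
    have hSM : (S : Subgroup G) ≤ M := fun x hx => by
      obtain ⟨i, hi⟩ := S.2 ⟨x, hx⟩
      obtain ⟨j, -, hj⟩ := (Nat.dvd_prime_pow Nat.prime_two).1
        ((orderOf_map_dvd π₀ x).trans (orderOf_dvd_of_pow_eq_one (congrArg Subtype.val hi)))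
      exact Subgroup.subset_closure ⟨mem_top _, j, hj⟩
    have hL := Consumers.closure_three hB hse hp
    obtain ⟨h1, h2⟩ := three_bounds hV2 (γ.comp M.subtype) (hγ.comp M.subtype_injective) π hπ hker hL
      (S.subtype hSM) (z := ⟨z, hSM hzS⟩) hzS
      (mem_centralizer_iff.2 fun y hy => Subtype.ext (mem_centralizer_iff.1 hzc y hy))
      (fun h => Invol.ne_one hz (congrArg Subtype.val h))
    rw [Sylow.coe_subtype, Nat.card_congr (subgroupOfEquivOfLe hSM).toEquiv] at h1
    have hVc : Nat.card (Multiplicative V) = 2 ^ Module.finrank (ZMod 2) V := by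
      rw [Nat.card_congr Multiplicative.toAdd, Module.natCard_eq_pow_finrank (K := ZMod 2),
        Nat.card_zmod]
    rw [hVc] at h1
    refine ⟨fun k hk => ?_, fun n _ hn s hs hs1 => ?_⟩
    · rw [hk, ← pow_mul, mul_comm] at h1
      exact (Nat.pow_le_pow_iff_right (by norm_num)).1 h1
    · rw [← Nat.pow_le_pow_iff_right (one_lt_two (α := ℕ)), ← card_disp, ← hn]
      refine le_trans (le_trans ?_ h2) (hmono s hs hs1)
      refine Nat.card_le_card_of_injective (fun x => ⟨⟨x.1, hSM x.2.1⟩, x.2.1,
        mem_centralizer_iff.2 fun y hy => Subtype.ext (mem_centralizer_iff.1 x.2.2 y hy)⟩) ?_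
      intro x y hxy
      have h : (⟨x.1, hSM x.2.1⟩ : M) = ⟨y.1, hSM y.2.1⟩ := congrArg Subtype.val hxy
      exact Subtype.ext (congrArg (fun w : M => (w : G)) h)
  · have heq : ∀ u v : G, orderOf u = 2 → orderOf v = 2 → Commute u v → u = v :=
      fun u v hu hv hc => by_contra fun hne => hp ⟨u, v, hu, hv, hne, hc⟩
    have hun : ∀ s ∈ (S : Subgroup G), orderOf s = 2 → s = z := fun s hs h2 =>
      heq s z h2 hz (mem_centralizer_iff.1 hzc s hs)
    refine ⟨fun k hk => ?_, fun n hn2 hn s hs hs1 => ?_⟩
    · obtain ⟨q, iq, Q, hq, hQ, hSQ, hmv⟩ := exists_moved hse heq S hz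
      exact two_mul_le_finrank hρ hq hk hzS hz hun hQ hSQ hmv
    · have hle : n ≤ 1 := by
        by_contra hc
        haveI : Fintype ↥((S : Subgroup G) ⊓ centralizer ((S : Subgroup G) : Set G)) :=
          Fintype.ofFinite _
        have hcard : Nat.card ↥((S : Subgroup G) ⊓ centralizer ((S : Subgroup G) : Set G)) ≤ 2 := by
          refine le_trans (Nat.card_le_card_of_injective
            (fun x => decide ((x : G) = 1)) ?_) (le_of_eq (by rw [Nat.card_eq_fintype_card, Fintype.card_bool]))
          intro x y hxy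
          have h : ((x : G) = 1 ↔ (y : G) = 1) := decide_eq_decide.1 hxy
          by_cases hx : (x : G) = 1
          · exact Subtype.ext (hx.trans (h.1 hx).symm)
          · have key : ∀ w ∈ (S : Subgroup G) ⊓ centralizer ((S : Subgroup G) : Set G),
                w ≠ 1 → w = z := fun w hw hw1 =>
              hun w hw.1 (Invol.orderOf_eq_two (by rw [← sq]; exact hn2 w hw) hw1)
            exact Subtype.ext ((key _ x.2 hx).trans (key _ y.2 fun e => hx (h.2 e)).symm)
        rw [hn] at hcard
        have h4 : 2 ^ 2 ≤ 2 ^ n := Nat.pow_le_pow_right (by norm_num) (by omega)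
        omega
      refine hle.trans (Nat.one_le_iff_ne_zero.2 fun h0 => hs1 (hρ ?_))
      rw [Submodule.finrank_eq_zero, LinearMap.range_eq_bot, sub_eq_zero] at h0
      rw [h0, map_one]

end Dims

end CfsgLib.Bender.ModuleDim
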